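import Groth.Agent.RigCh.K989.StrictMod
import Groth.Agent.RigCh.K989.Boundary
import Groth.Agent.S1272
import Groth.Agent.Flat2C.StrictM
import Groth.Agent.Models2.TorDimRel
import Groth.Agent.Models2.FPCoh
import Groth.Agent.Ega3B.FlatRestrict
import Groth.Agent.Divis.StalkMod
import Groth.Agent.Pic13.H969.StalkFree
import Groth.Agent.FormalB.PullCoh
import Groth.Agent.FormalB.FormalLoc
import Groth.Agent.Sga67.CohLoc

/-!
# Extending epimorphisms of locally free modules to modifications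
-/

set_option autoImplicit false
universe u

open CategoryTheory CategoryTheory.Limits AlgebraicGeometry TopologicalSpace Opposite
open AlgebraicGeometry.Scheme.Modules

namespace K989.Model

open K989.StrictMod

variable {X Y Y' : Scheme.{u}} {F₂ F₃ : X.Modules}

/-- an epimorphism of modules on `Y` restricting to `s` along `j`. -/
structure Mdl (s : F₂ ⟶ F₃) (j : X ⟶ Y) where
  P₂ : Y.Modules
  P₃ : Y.Modules
  p : P₂ ⟶ P₃
  epi : Epi p
  e₂ : (Scheme.Modules.pullback j).obj P₂ ≅ F₂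
  e₃ : (Scheme.Modules.pullback j).obj P₃ ≅ F₃
  comm : (Scheme.Modules.pullback j).map p ≫ e₃.hom = e₂.hom ≫ s

/-- the comparison of the pullbacks. -/
noncomputable def cmp {b : Y' ⟶ Y} {j' : X ⟶ Y'} {j : X ⟶ Y} (hj : j' ≫ b = j) (P : Y.Modules) :
    (Scheme.Modules.pullback j').obj ((Scheme.Modules.pullback b).obj P) ≅
      (Scheme.Modules.pullback j).obj P :=
  (pullbackComp j' b).app P ≪≫ (pullbackCongr hj).app P

theorem cmp_naturality {b : Y' ⟶ Y} {j' : X ⟶ Y'} {j : X ⟶ Y} (hj : j' ≫ b = j) {P Q : Y.Modules}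
    (f : P ⟶ Q) :
    (Scheme.Modules.pullback j').map ((Scheme.Modules.pullback b).map f) ≫ (cmp hj Q).hom =
      (cmp hj P).hom ≫ (Scheme.Modules.pullback j).map f := by
  have h1 := (pullbackComp j' b).hom.naturality f
  have h2 := (pullbackCongr hj).hom.naturality f
  change _ ≫ (pullbackComp j' b).hom.app Q ≫ (pullbackCongr hj).hom.app Q =
    ((pullbackComp j' b).hom.app P ≫ (pullbackCongr hj).hom.app P) ≫ _
  rw [Category.assoc, ← h2, ← Category.assoc, ← Category.assoc]
  congr 1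

variable {s : F₂ ⟶ F₃} {j : X ⟶ Y}

/-- transport of a model along a modification. -/
noncomputable def Mdl.step (m : Mdl s j) (b : Y' ⟶ Y) (j' : X ⟶ Y') (hj : j' ≫ b = j)
    {G₂ G₃ : Y'.Modules} (π₂ : (Scheme.Modules.pullback b).obj m.P₂ ⟶ G₂)
    (π₃ : (Scheme.Modules.pullback b).obj m.P₃ ⟶ G₃) (h3 : Epi π₃)
    (p' : G₂ ⟶ G₃) (h : π₂ ≫ p' = (Scheme.Modules.pullback b).map m.p ≫ π₃)
    (i2 : IsIso ((Scheme.Modules.pullback j').map π₂))
    (i3 : IsIso ((Scheme.Modules.pullback j').map π₃)) : Mdl s j' where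
  P₂ := G₂
  P₃ := G₃
  p := p'
  epi := by
    have := m.epi
    have : Epi (π₂ ≫ p') := by
      rw [h]
      infer_instance
    exact epi_of_epi π₂ p'
  e₂ := (asIso ((Scheme.Modules.pullback j').map π₂)).symm ≪≫ cmp hj m.P₂ ≪≫ m.e₂
  e₃ := (asIso ((Scheme.Modules.pullback j').map π₃)).symm ≪≫ cmp hj m.P₃ ≪≫ m.e₃
  comm := by
    have h1 : (Scheme.Modules.pullback j').map π₂ ≫ (Scheme.Modules.pullback j').map p' =
        (Scheme.Modules.pullback j').map ((Scheme.Modules.pullback b).map m.p) ≫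
          (Scheme.Modules.pullback j').map π₃ := by
      rw [← Functor.map_comp, h, Functor.map_comp]
    rw [← cancel_epi ((Scheme.Modules.pullback j').map π₂)]
    simp only [Iso.trans_hom, Iso.symm_hom, asIso_inv, Category.assoc, IsIso.hom_inv_id_assoc]
    rw [← Category.assoc, h1, Category.assoc, IsIso.hom_inv_id_assoc, ← Category.assoc,
      cmp_naturality, Category.assoc, m.comm]

/-- Flattening of a coherent module which is locally free on an open subscheme. -/
theorem exists_flattening [IsNoetherian Y] (j : X ⟶ Y) [IsOpenImmersion j] (P : Y.Modules)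
    (hP : Coh.IsCoh P) (hfl : FlatMod.IsFinLocFree ((Scheme.Modules.pullback j).obj P)) :
    ∃ (𝓘 : Y.IdealSheafData) (Y' : Scheme.{u}) (b : Y' ⟶ Y), BlowUp.IsBlowUp b 𝓘 ∧ IsProper b ∧
      BlowUp.IsFiniteTypeIdeal 𝓘 ∧
      Disjoint (Set.range j.base) (𝓘.support : Set Y) ∧
      ∀ (G : Y'.Modules) (π : (Scheme.Modules.pullback b).obj P ⟶ G),
        BlowUp.IsStrictTransform b 𝓘 P G π → FlatMod.IsFinLocFree G := by
  have hU : IsCompact (j.opensRange : Set Y) := NoetherianSpace.isCompact _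
  have hflR : FlatMod.IsFlat (P.restrict j) := by
    apply Groth.Agent.Dcoh.Spread.isFlat_of_isFinLocFree
    exact isFinLocFree_of_iso ((restrictFunctorIsoPullback j).symm.app P) hfl
  obtain ⟨𝓘, Y', b, hb, hadm, H⟩ := Groth.Agent.S1272.result (𝟙 Y) j.opensRange hU P hP.1 hP.2
    (by
      have hc := Groth.Agent.FormalB.PullCoh.isCoh_pullback ((𝟙 Y) ⁻¹ᵁ j.opensRange).ι hP
      exact Groth.Agent.Pic13.H969.StalkFree.isFP_of_isCoh hc)
    (by
      rintro x ⟨y, hy⟩
      have hy' : j y = x := hy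
      subst hy'
      rw [← Groth.Agent.Ega3B.FlatRestrict.isFlatOverAt_restrict_iff_comp]
      have : j ≫ 𝟙 Y = j := Category.comp_id j
      rw [this, Groth.Agent.Models2.TorDimRel.isFlatOverAt_iff]
      exact hflR y)
  have hbp : IsProper b := Groth.Agent.Flat2C.BlowProper.isProper_of_isBlowUp hb hadm.1
  refine ⟨𝓘, Y', b, hb, hbp, hadm.1, hadm.2.symm, fun G π hG => ?_⟩
  have hpb : IsPullback b (𝟙 Y') (𝟙 Y) b := IsPullback.of_vert_isIso ⟨by simp⟩
  have hG' : BlowUp.IsStrictTransform b (𝓘.comap (𝟙 Y)) P G π := by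
    rwa [Scheme.IdealSheafData.comap_id]
  obtain ⟨h1, h2⟩ := H Y' b (𝟙 Y') hpb G π hG'
  have hcoh : Coh.IsCoh G := Groth.Agent.Models2.FPCoh.isCoh_of_isFP h1
  have : IsLocallyNoetherian Y' := LocallyOfFiniteType.isLocallyNoetherian b
  refine Groth.Agent.Divis.StalkMod.isFinLocFree_of_free_stalk hcoh fun x => ?_
  have hfin := Groth.Agent.Divis.StalkMod.finite_stalk hcoh x
  have hflat : Module.Flat (Y'.presheaf.stalk x) (G.presheaf.stalk x) :=
    (Groth.Agent.Models2.TorDimRel.isFlatOverAt_iff (𝟙 Y') G x).1 (h2 x)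
  exact Module.free_of_flat_of_isLocalRing

end K989.Model
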