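import Groth.Agent.RigCh.K989.Model
import Groth.Agent.PerfA.CohSerre

/-!
# Extending epimorphisms of locally free modules to compactifications with divisor boundary
-/

set_option autoImplicit false
universe u

open CategoryTheory CategoryTheory.Limits AlgebraicGeometry TopologicalSpace Opposite
open AlgebraicGeometry.Scheme.Modules

namespace K989.Model

open K989.StrictMod

variable {X Y Y' : Scheme.{u}} {F₂ F₃ : X.Modules}

/-- Extension of an epimorphism of coherent modules. -/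
theorem exists_model [IsNoetherian Y] (j : X ⟶ Y) [IsOpenImmersion j] (s : F₂ ⟶ F₃) [Epi s]
    (h₂ : Coh.IsCoh F₂) (h₃ : Coh.IsCoh F₃) :
    ∃ m : Mdl s j, Coh.IsCoh m.P₂ ∧ Coh.IsCoh m.P₃ := by
  obtain ⟨P₂, hP₂, ⟨φ⟩⟩ := Groth.Agent.Sga67.CohLoc.exists_extension j F₂ h₂
  let a : P₂ ⟶ (pushforward j).obj F₃ := (restrictAdjunction j).homEquiv _ _ (φ.hom ≫ s)
  let p : P₂ ⟶ image a := factorThruImage a
  let i : image a ⟶ (pushforward j).obj F₃ := image.ι a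
  have hpi : p ≫ i = a := image.fac a
  have hcoh : Coh.IsCoh (image a) :=
    Groth.Agent.FormalB.FormalLoc.isCoh_of_epi_mono p i hP₂
      (Groth.Agent.Sga67.CohBasic.isQCoh_push j h₃.1)
  let t : (restrictFunctor j).obj (image a) ⟶ F₃ :=
    (restrictFunctor j).map i ≫ (restrictAdjunction j).counit.app F₃
  have ht : (restrictFunctor j).map p ≫ t = φ.hom ≫ s := by
    change _ ≫ (restrictFunctor j).map i ≫ (restrictAdjunction j).counit.app F₃ = _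
    rw [← Category.assoc, ← Functor.map_comp, hpi]
    have := (restrictAdjunction j).homEquiv_counit (X := P₂) (Y := F₃) (g := a)
    rw [← this]
    exact ((restrictAdjunction j).homEquiv _ _).symm_apply_apply _
  have hmono : Mono t := by
    have h1 : Mono ((restrictFunctor j).map i) := inferInstance
    have h2 : IsIso ((restrictAdjunction j).counit.app F₃) := inferInstance
    exact mono_comp _ _
  have hepi : Epi t := by
    have : Epi ((restrictFunctor j).map p ≫ t) := by rw [ht]; infer_instance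
    exact epi_of_epi ((restrictFunctor j).map p) t
  have hiso : IsIso t := isIso_of_mono_of_epi t
  refine ⟨{ P₂ := P₂
            P₃ := image a
            p := p
            epi := inferInstance
            e₂ := (restrictFunctorIsoPullback j).symm.app P₂ ≪≫ φ
            e₃ := (restrictFunctorIsoPullback j).symm.app (image a) ≪≫ asIso t
            comm := ?_ }, hP₂, hcoh⟩
  have hn : (Scheme.Modules.pullback j).map p ≫ (restrictFunctorIsoPullback j).inv.app (image a) =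
      (restrictFunctorIsoPullback j).inv.app P₂ ≫ (restrictFunctor j).map p :=
    (restrictFunctorIsoPullback j).inv.naturality p
  change (Scheme.Modules.pullback j).map p ≫
    (restrictFunctorIsoPullback j).inv.app (image a) ≫ t =
    ((restrictFunctorIsoPullback j).inv.app P₂ ≫ φ.hom) ≫ s
  rw [← Category.assoc, hn, Category.assoc, ht, Category.assoc]

variable {s : F₂ ⟶ F₃} {j : X ⟶ Y}

/-- Transport of a model along a blow-up whose centre is disjoint from `X`. -/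
theorem exists_step [IsLocallyNoetherian Y] [IsOpenImmersion j] (m : Mdl s j) (h₂ : Coh.IsCoh m.P₂)
    (h₃ : Coh.IsCoh m.P₃) (𝓘 : Y.IdealSheafData) (b : Y' ⟶ Y) (hb : BlowUp.IsBlowUp b 𝓘)
    (hd : Disjoint (Set.range j.base) (𝓘.support : Set Y)) :
    ∃ (j' : X ⟶ Y') (_ : IsOpenImmersion j') (_ : j' ≫ b = j) (m' : Mdl s j')
      (π₂ : (Scheme.Modules.pullback b).obj m.P₂ ⟶ m'.P₂)
      (π₃ : (Scheme.Modules.pullback b).obj m.P₃ ⟶ m'.P₃),
      Set.range j'.base = b.base ⁻¹' (Set.range j.base) ∧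
      BlowUp.IsStrictTransform b 𝓘 m.P₂ m'.P₂ π₂ ∧ BlowUp.IsStrictTransform b 𝓘 m.P₃ m'.P₃ π₃ ∧
      Coh.IsCoh m'.P₂ ∧ Coh.IsCoh m'.P₃ ∧
      (FlatMod.IsFinLocFree m.P₂ → FlatMod.IsFinLocFree m'.P₂) ∧
      (FlatMod.IsFinLocFree m.P₃ → FlatMod.IsFinLocFree m'.P₃) := by
  obtain ⟨j', hj', hjb, hr⟩ := K989.Boundary.exists_lift_openImmersion j 𝓘 b hb hd
  have hft := K989.Boundary.isFiniteTypeIdeal 𝓘
  obtain ⟨G₂, π₂, hG₂⟩ := Groth.Agent.Flat2C.StrictM.exists_isStrictTransform b hft m.P₂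
  obtain ⟨G₃, π₃, hG₃⟩ := Groth.Agent.Flat2C.StrictM.exists_isStrictTransform b hft m.P₃
  have t₂ : IsTQ (𝓘.comap b) π₂ := hG₂
  have t₃ : IsTQ (𝓘.comap b) π₃ := hG₃
  obtain ⟨p', hp'⟩ := exists_map t₂ t₃ ((Scheme.Modules.pullback b).map m.p)
  have hd' : Disjoint (Set.range j'.base) ((𝓘.comap b).support : Set Y') := by
    rw [hr, Scheme.IdealSheafData.support_comap]
    exact Disjoint.preimage _ hd
  have i₂ := isIso_pullback t₂ j' hd'
  have i₃ := isIso_pullback t₃ j' hd'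
  have c₂ := Groth.Agent.FormalB.PullCoh.isCoh_pullback b h₂
  have c₃ := Groth.Agent.FormalB.PullCoh.isCoh_pullback b h₃
  have ep₂ : Epi π₂ := hG₂.1
  have ep₃ : Epi π₃ := hG₃.1
  have q₂ : Coh.IsCoh G₂ := ⟨K989.StrictQC.isQCoh_of_torsQuot hb.1 c₂.1 π₂ hG₂.2,
    Groth.Agent.CohqB.LocalQC.isFT_of_epi π₂ c₂.2⟩
  have q₃ : Coh.IsCoh G₃ := ⟨K989.StrictQC.isQCoh_of_torsQuot hb.1 c₃.1 π₃ hG₃.2,
    Groth.Agent.CohqB.LocalQC.isFT_of_epi π₃ c₃.2⟩
  refine ⟨j', hj', hjb, m.step b j' hjb π₂ π₃ hG₃.1 p' hp' i₂ i₃, π₂, π₃, hr, hG₂, hG₃,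
    q₂, q₃,
    fun h => isFinLocFree_of_isFinLocFree hb.1 t₂
      (Groth.Agent.PerfC.PullRestrict.isFinLocFree_pullback b h),
    fun h => isFinLocFree_of_isFinLocFree hb.1 t₃
      (Groth.Agent.PerfC.PullRestrict.isFinLocFree_pullback b h)⟩

/-- An epimorphism of finite locally free modules extends to an epimorphism of finite locally free
modules on a compactification with divisor boundary. -/
theorem exists_locFree_model {X S : Scheme.{u}} [IsNoetherian S] (f : X ⟶ S) [IsSeparated f]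
    [QuasiCompact f] [LocallyOfFiniteType f] {F₂ F₃ : X.Modules} (s : F₂ ⟶ F₃) [Epi s]
    (h₂ : FlatMod.IsFinLocFree F₂) (h₃ : FlatMod.IsFinLocFree F₃) :
    ∃ (Y : Scheme.{u}) (j : X ⟶ Y) (g : Y ⟶ S) (E : Y.IdealSheafData),
      IsOpenImmersion j ∧ IsProper g ∧ j ≫ g = f ∧ BlowUp.IsEffCartierIdeal E ∧
      (E.support : Set Y) = (Set.range j.base)ᶜ ∧
      ∃ m : Mdl s j, FlatMod.IsFinLocFree m.P₂ ∧ FlatMod.IsFinLocFree m.P₃ := by
  have hc₂ : Coh.IsCoh F₂ := Groth.Agent.PerfA.CohSerre.isCoh_of_isFinLocFree h₂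
  have hc₃ : Coh.IsCoh F₃ := Groth.Agent.PerfA.CohSerre.isCoh_of_isFinLocFree h₃
  obtain ⟨Y₀, j₀, g₀, hj₀, -, hg₀, hjg₀⟩ := Groth.Agent.S0384.result f
  have hl₀ : IsLocallyNoetherian Y₀ := LocallyOfFiniteType.isLocallyNoetherian g₀
  have hcp₀ : CompactSpace Y₀ := QuasiCompact.compactSpace_of_compactSpace g₀
  have hn₀ : IsNoetherian Y₀ := {}
  obtain ⟨m₀, a₀, b₀⟩ := exists_model j₀ s hc₂ hc₃
  -- flatten `P₃`
  obtain ⟨𝓘₁, Y₁, b₁, hb₁, hbp₁, hft₁, hd₁, H₁⟩ := exists_flattening j₀ m₀.P₃ b₀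
    (isFinLocFree_of_iso m₀.e₃.symm h₃)
  obtain ⟨j₁, hj₁, hjb₁, m₁, π₂, π₃, hr₁, hs₂, hs₃, a₁, c₁, -, -⟩ :=
    exists_step m₀ a₀ b₀ 𝓘₁ b₁ hb₁ hd₁
  have hf₁ : FlatMod.IsFinLocFree m₁.P₃ := H₁ _ _ hs₃
  have hl₁ : IsLocallyNoetherian Y₁ := LocallyOfFiniteType.isLocallyNoetherian b₁
  have hcp₁ : CompactSpace Y₁ := QuasiCompact.compactSpace_of_compactSpace b₁
  have hn₁ : IsNoetherian Y₁ := {}
  -- flatten `P₂`
  obtain ⟨𝓘₂, Y₂, b₂, hb₂, hbp₂, hft₂, hd₂, H₂⟩ := exists_flattening j₁ m₁.P₂ a₁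
    (isFinLocFree_of_iso m₁.e₂.symm h₂)
  obtain ⟨j₂, hj₂, hjb₂, m₂, ρ₂, ρ₃, hr₂, ht₂, ht₃, a₂, c₂, -, d₂⟩ :=
    exists_step m₁ a₁ c₁ 𝓘₂ b₂ hb₂ hd₂
  have hf₂ : FlatMod.IsFinLocFree m₂.P₂ := H₂ _ _ ht₂
  have hf₃ : FlatMod.IsFinLocFree m₂.P₃ := d₂ hf₁
  have hl₂ : IsLocallyNoetherian Y₂ := LocallyOfFiniteType.isLocallyNoetherian b₂
  -- blow up the boundary
  let Z : Closeds Y₂ := ⟨(j₂.opensRange : Set Y₂)ᶜ, j₂.opensRange.isOpen.isClosed_compl⟩
  let I : Y₂.IdealSheafData := Scheme.IdealSheafData.vanishingIdeal Z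
  have hI : (I.support : Set Y₂) = (Set.range j₂.base)ᶜ := by
    exact Scheme.IdealSheafData.coe_support_vanishingIdeal Z
  obtain ⟨Y₃, b₃, hb₃⟩ := Groth.Agent.Flat2C.BlowExist.exists_isBlowUp I
  have hbp₃ : IsProper b₃ := Groth.Agent.Flat2C.BlowProper.isProper_of_isBlowUp hb₃
    (K989.Boundary.isFiniteTypeIdeal I)
  obtain ⟨j₃, hj₃, hjb₃, m₃, σ₂, σ₃, hr₃, -, -, -, -, d₃, d₃'⟩ :=
    exists_step m₂ a₂ c₂ I b₃ hb₃ (by rw [hI]; exact disjoint_compl_right)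
  refine ⟨Y₃, j₃, b₃ ≫ b₂ ≫ b₁ ≫ g₀, I.comap b₃, hj₃, inferInstance, ?_, hb₃.1, ?_, m₃, d₃ hf₂,
    d₃' hf₃⟩
  · rw [← Category.assoc, hjb₃, ← Category.assoc, hjb₂, ← Category.assoc, hjb₁, hjg₀]
  · rw [Scheme.IdealSheafData.support_comap, hr₃]
    ext x
    show b₃ x ∈ (I.support : Set Y₂) ↔ _
    rw [hI]
    rfl

end K989.Model
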